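import Groth.Agent.Etrest.RDer2
import Groth.Agent.PerfB.GammaZ

/-!
# `Γ_Z I` is acyclic for global sections, `I` injective
-/

set_option autoImplicit false

universe u v v' u' 

open CategoryTheory CategoryTheory.Limits AlgebraicGeometry Opposite TopologicalSpace

namespace K822.Acyc

open Groth.Agent Groth.Agent.Etrest.RDer1 Groth.Agent.Etrest.RDer2

section

variable {A : Type u} [Category.{v} A] [Abelian A] [EnoughInjectives A]
  {B : Type u'} [Category.{v'} B] [Abelian B] (G : A ⥤ B) [G.Additive]

theorem isAcyc_X₁ [PreservesFiniteLimits G] {S : ShortComplex A} (hS : S.ShortExact)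
    (h2 : IsAcyc G S.X₂) (h3 : IsAcyc G S.X₃) (he : Epi (G.map S.g)) : IsAcyc G S.X₁ := by
  intro n
  cases n with
  | zero =>
    have e := G.rightDerivedZeroIsoSelf
    have h4 : Epi ((G.rightDerived 0).map S.g) := by
      have h5 : (G.rightDerived 0).map S.g = e.hom.app _ ≫ G.map S.g ≫ e.inv.app _ := by
        rw [e.inv.naturality]
        simp
      rw [h5]
      infer_instance
    have h6 : δ G hS 0 = 0 := by
      rw [← cancel_epi ((G.rightDerived 0).map S.g), comp_zero]
      exact comp_δ G hS 0
    exact (exact₁ G hS 0).isZero_of_both_zeros h6 ((h2 0).eq_of_tgt _ _)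
  | succ n => exact isZero_X₁ G hS (n + 1) (h3 n) (h2 (n + 1))

end

variable {U X : Scheme.{u}} (j : U ⟶ X) [IsOpenImmersion j]

instance injective_push (I : U.Modules) [Injective I] :
    Injective ((Scheme.Modules.pushforward j).obj I) :=
  Injective.injective_of_adjoint (Scheme.Modules.restrictAdjunction j) I

/-- The short exact sequence of an injective module. -/
noncomputable def ses (I : X.Modules) : ShortComplex X.Modules :=
  ShortComplex.mk (kernel.ι ((Scheme.Modules.restrictAdjunction j).unit.app I))
    ((Scheme.Modules.restrictAdjunction j).unit.app I) (kernel.condition _)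

theorem shortExact_ses (I : X.Modules) [Injective I] : (ses j I).ShortExact where
  exact := ShortComplex.exact_of_f_is_kernel _ (kernelIsKernel _)
  mono_f := inferInstanceAs (Mono (kernel.ι ((Scheme.Modules.restrictAdjunction j).unit.app I)))
  epi_g := PerfB.GammaZ.epi_unit j I

theorem epi_gammaAb (I : X.Modules) [Injective I] :
    Epi ((DCoh.gammaAb X).map ((Scheme.Modules.restrictAdjunction j).unit.app I)) := by
  rw [AddCommGrpCat.epi_iff_surjective]
  intro y
  obtain ⟨z, hz⟩ := Groth.Agent.Ega3B.InjMod.surjective_map_of_injective I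
    (homOfLE (j.image_preimage_le ⊤)) y
  refine ⟨z, ?_⟩
  refine Eq.trans ?_ hz
  exact congrArg (fun t => t z) (Scheme.Modules.restrictAdjunction_unit_app_app j I ⊤)

theorem isAcyc_gammaZ [EnoughInjectives X.Modules] [PreservesFiniteLimits (DCoh.gammaAb X)]
    (I : X.Modules) [Injective I] :
    IsAcyc (DCoh.gammaAb X) ((DCoh.gammaZ j).obj I) :=
  isAcyc_X₁ (DCoh.gammaAb X) (shortExact_ses j I) (isAcyc_of_injective _ I)
    (isAcyc_of_injective _ ((Scheme.Modules.pushforward j).obj
      ((Scheme.Modules.restrictFunctor j).obj I))) (epi_gammaAb j I)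

end K822.Acyc
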