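import Groth.Agent.Dual3.K478.GammaZ
import Groth.Agent.Dcoh.DerPull

/-!
# Recognising `RΓ_Z`

`j : U ⟶ X` an open immersion, `Z = X ∖ j(U)`.

* `factors_isIso`: if `φ : L ⟶ K` is such that `L` vanishes on `U` and `Hom(T, φ)` is bijective for all `T`
  vanishing on `U`, then `φ` factors through `RΓ_Z K ⟶ K` and every factorisation `L ⟶ RΓ_Z K` is an isomorphism;
* `factors_isIso_of_triangle`: the case of the first map of a triangle `L ⟶ K ⟶ Rj_* N ⟶`;
* `isZero_RgammaZ_iff`, `restrictIsoLpull`, `isZero_restrictD_Lpull` (base change of vanishing).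
-/

set_option autoImplicit false

universe u

open CategoryTheory CategoryTheory.Limits AlgebraicGeometry Pretriangulated

attribute [local instance] HasDerivedCategory.standard

namespace K822.Core

open Groth.Agent Groth.Agent.Dcoh.DerHo Groth.Agent.Dcoh.DerSch Groth.Agent.Dcoh.DerPull

variable {U X : Scheme.{u}} (j : U ⟶ X) [IsOpenImmersion j]

section

variable [CxOX.HasRgammaZ j]

theorem factors_isIso {L K : DCoh.D X} (φ : L ⟶ K) (hL : IsZero ((DCoh.restrictD j).obj L))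
    (hφ : ∀ T : DCoh.D X, IsZero ((DCoh.restrictD j).obj T) →
      Function.Bijective (fun ψ : T ⟶ L => ψ ≫ φ)) :
    (∃ α : L ⟶ (CxOX.RgammaZ j).obj K, α ≫ (CxOX.RgammaZToId j).app K = φ) ∧
    ∀ α : L ⟶ (CxOX.RgammaZ j).obj K, α ≫ (CxOX.RgammaZToId j).app K = φ → IsIso α := by
  refine ⟨(K478.GammaZ.bijective_comp_RgammaZToId j hL K).2 φ, fun α hα => ?_⟩
  -- `Hom(T, α)` is bijective for all `T` vanishing on `U`
  have key : ∀ T : DCoh.D X, IsZero ((DCoh.restrictD j).obj T) →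
      Function.Bijective (fun ψ : T ⟶ L => ψ ≫ α) := by
    intro T hT
    have h1 := K478.GammaZ.bijective_comp_RgammaZToId j hT K
    have h2 := hφ T hT
    have h3 : (fun ψ : T ⟶ L => ψ ≫ φ) =
        (fun ψ : T ⟶ (CxOX.RgammaZ j).obj K => ψ ≫ (CxOX.RgammaZToId j).app K) ∘
          (fun ψ : T ⟶ L => ψ ≫ α) := by
      funext ψ
      exact (congrArg (fun t => ψ ≫ t) hα.symm).trans (Category.assoc _ _ _).symm
    rw [h3] at h2
    exact (Function.Bijective.of_comp_iff' h1 _).1 h2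
  obtain ⟨β, hβ⟩ := (key _ (K478.GammaZ.isZero_restrictD_RgammaZ j K)).2 (𝟙 _)
  refine ⟨β, ?_, hβ⟩
  apply (key _ hL).1
  change (α ≫ β) ≫ α = 𝟙 _ ≫ α
  have h4 : β ≫ α = 𝟙 _ := hβ
  rw [Category.assoc, h4, Category.comp_id, Category.id_comp]

theorem factors_isIso_of_triangle [DCoh.HasRpush j] {L K : DCoh.D X} {N : DCoh.D U} {φ : L ⟶ K}
    {v : K ⟶ (DCoh.Rpush j).obj N} {w : (DCoh.Rpush j).obj N ⟶ L⟦(1 : ℤ)⟧}
    (hT : Triangle.mk φ v w ∈ distTriang (DCoh.D X)) (hL : IsZero ((DCoh.restrictD j).obj L)) :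
    (∃ α : L ⟶ (CxOX.RgammaZ j).obj K, α ≫ (CxOX.RgammaZToId j).app K = φ) ∧
    ∀ α : L ⟶ (CxOX.RgammaZ j).obj K, α ≫ (CxOX.RgammaZToId j).app K = φ → IsIso α :=
  factors_isIso j φ hL fun T hT' => K478.GammaZ.bijective_comp hT T
    (fun ψ => K478.GammaZ.eq_zero_of_isZero j hT' ψ)
    (fun ψ => K478.GammaZ.eq_zero_of_isZero j (K478.GammaZ.isZero_restrictD_shift j hT' 1) ψ)

/-- `RΓ_Z K = 0` if there are no nonzero maps to `K` from objects vanishing on `U`. -/
theorem isZero_RgammaZ_iff (K : DCoh.D X) : IsZero ((CxOX.RgammaZ j).obj K) ↔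
    ∀ T : DCoh.D X, IsZero ((DCoh.restrictD j).obj T) → ∀ ψ : T ⟶ K, ψ = 0 := by
  constructor
  · intro h T hT ψ
    obtain ⟨χ, rfl⟩ := (K478.GammaZ.bijective_comp_RgammaZToId j hT K).2 ψ
    change χ ≫ (CxOX.RgammaZToId j).app K = 0
    rw [h.eq_of_tgt χ 0]
    exact zero_comp
  · intro h
    have hz := K478.GammaZ.isZero_restrictD_RgammaZ j K
    rw [IsZero.iff_id_eq_zero]
    apply (K478.GammaZ.bijective_comp_RgammaZToId j hz K).1
    exact (h _ hz _).trans (h _ hz _).symm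

end

/-- Objects isomorphic to some `Rj_* N` receive no nonzero maps from objects vanishing on `U`. -/
theorem eq_zero_of_iso_Rpush [DCoh.HasRpush j] {T K : DCoh.D X}
    (hT : IsZero ((DCoh.restrictD j).obj T)) {N : DCoh.D U} (e : K ≅ (DCoh.Rpush j).obj N)
    (ψ : T ⟶ K) : ψ = 0 := by
  have := K478.GammaZ.eq_zero_of_isZero j hT (ψ ≫ e.hom)
  rw [← cancel_mono e.hom, this]
  exact zero_comp.symm

/-- `factors_isIso` for the first map of a triangle whose third object is isomorphic to some `Rj_* N`. -/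
theorem factors_isIso_of_triangle' [CxOX.HasRgammaZ j] [DCoh.HasRpush j] {L K E : DCoh.D X} {φ : L ⟶ K}
    {v : K ⟶ E} {w : E ⟶ L⟦(1 : ℤ)⟧} (hT : Triangle.mk φ v w ∈ distTriang (DCoh.D X))
    {N : DCoh.D U} (e : E ≅ (DCoh.Rpush j).obj N) (hL : IsZero ((DCoh.restrictD j).obj L)) :
    (∃ α : L ⟶ (CxOX.RgammaZ j).obj K, α ≫ (CxOX.RgammaZToId j).app K = φ) ∧
    ∀ α : L ⟶ (CxOX.RgammaZ j).obj K, α ≫ (CxOX.RgammaZToId j).app K = φ → IsIso α :=
  factors_isIso j φ hL fun T hT' => K478.GammaZ.bijective_comp hT T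
    (fun ψ => eq_zero_of_iso_Rpush j hT' e ψ)
    (fun ψ => eq_zero_of_iso_Rpush j (K478.GammaZ.isZero_restrictD_shift j hT' 1) e ψ)

/-- `j^* ≅ Lj^*`. -/
noncomputable def restrictIsoLpull [DCoh.HasLpull j] : DCoh.restrictD j ≅ DCoh.Lpull j :=
  haveI := hasRpush j
  (restrictAdj j).leftAdjointUniq (lpullAdj j)

section BaseChange

variable {Y V : Scheme.{u}} (f : X ⟶ Y) (f' : U ⟶ V) (i : V ⟶ Y) [IsOpenImmersion i]

/-- If `T` vanishes on `V` then `Lf^* T` vanishes on `U` (commutative square). -/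
theorem isZero_restrictD_Lpull [DCoh.HasLpull f] (h : f' ≫ i = j ≫ f) {T : DCoh.D Y}
    (hT : IsZero ((DCoh.restrictD i).obj T)) :
    IsZero ((DCoh.restrictD j).obj ((DCoh.Lpull f).obj T)) := by
  have := hasLpull j
  have := hasLpull f'
  have := hasLpull i
  have := hasLpull (j ≫ f)
  have := hasLpull (f' ≫ i)
  obtain ⟨e₁⟩ := exists_lpullCompIso j f
  obtain ⟨e₂⟩ := exists_lpullCompIso f' i
  have e₃ : (DCoh.Lpull (j ≫ f)).obj T ≅ (DCoh.Lpull (f' ≫ i)).obj T := by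
    clear e₁ e₂
    revert this
    rw [h]
    intro _
    exact Iso.refl _
  have h1 : IsZero ((DCoh.Lpull i).obj T) := hT.of_iso ((restrictIsoLpull i).app T).symm
  let := lpullCommShift f'
  have := lpull_isTriangulated f'
  have h2 : IsZero ((DCoh.Lpull f').obj ((DCoh.Lpull i).obj T)) := (DCoh.Lpull f').map_isZero h1
  exact h2.of_iso ((restrictIsoLpull j).app _ ≪≫ e₁.app T ≪≫ e₃ ≪≫ (e₂.app T).symm)

end BaseChange

end K822.Core
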