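import Groth.Agent.CxOX.K822.HZCmp
import Groth.Agent.LocCohZ.K288.DepthGen
import Groth.Agent.QGor.K966.DualPres
import Groth.Agent.PerfA.CohSerre

/-!
# Vanishing of `ℋ^q_Z(M)` below the depth for `M` finite locally free
-/

set_option autoImplicit false

universe u

open CategoryTheory CategoryTheory.Limits AlgebraicGeometry Opposite TopologicalSpace

namespace K822.DepthVan

theorem le_depth_of_free {R : Type u} [CommRing R] [IsLocalRing R] [IsNoetherianRing R] (M : Type u)
    [AddCommGroup M] [Module R M] [Module.Finite R M] [Module.Free R M] :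
    LocCoh.depth R R ≤ LocCoh.depth R M := by
  have e : M ≃ₗ[R] (Fin (Module.finrank R M) → R) := (Module.finBasis R M).equivFun
  have h1 := K966.DualPres.le_idealDepth_pi (IsLocalRing.maximalIdeal R) R (Module.finrank R M)
  rw [Groth.Agent.S2938.idealDepth_congr _ e.symm] at h1
  exact h1

theorem isZero_HZshM {U X : Scheme.{u}} [IsLocallyNoetherian X] (j : U ⟶ X) [IsOpenImmersion j]
    [HasInjectiveResolutions X.Modules] (d : ℕ)
    (hdepth : ∀ y : ↥X, y ∉ Set.range j.base →
      (d : ℕ∞) ≤ LocCoh.depth ↑(X.presheaf.stalk y) ↑(X.presheaf.stalk y))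
    (M : X.Modules) (hM : FlatMod.IsFinLocFree M) (q : ℕ) (hq : q < d) :
    IsZero ((LocCohZ.HZshM j q).obj M) := by
  have hc : Coh.IsCoh M := Groth.Agent.PerfA.CohSerre.isCoh_of_isFinLocFree hM
  have h1 : ∀ x : X, x ∉ j.opensRange →
      (d : ℕ∞) ≤ LocCoh.depth (X.presheaf.stalk x) (M.presheaf.stalk x) := fun x hx => by
    obtain ⟨h2, h3⟩ := Groth.Agent.Divis.StalkMod.finite_free_stalk hc.1 hM x
    exact (hdepth x hx).trans (le_depth_of_free (R := X.presheaf.stalk x) (M.presheaf.stalk x))
  exact HZCmp.isZero_HZshM j M q ((K288.DepthGen.main M hc j.opensRange d).2 h1 q hq)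

end K822.DepthVan
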