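import Groth.Agent.PerfB.StupidK
import Groth.Agent.PerfA.Devissage

/-!
# Dévissage of `Hom(T, -) = 0` for complexes bounded below
-/

set_option autoImplicit false

universe w v u

open CategoryTheory CategoryTheory.Limits CategoryTheory.Pretriangulated DerivedCategory

namespace K822.HomDev

open Groth.Agent

variable {C : Type u} [Category.{v} C] [Abelian C] [HasDerivedCategory.{w} C]

/-- Maps from `D^{≤ N}` to `D^{≥ N + 1}` vanish. -/
theorem hom_eq_zero_of_isLE_isGE {T K : DerivedCategory C} (N M : ℤ) (h : N < M) (hT : T.IsLE N)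
    (hK : K.IsGE M) (f : T ⟶ K) : f = 0 :=
  DerivedCategory.TStructure.t.zero f N M h

theorem hom_eq_zero (T : DerivedCategory C) (N : ℤ) (hT : T.IsLE N) (E : CochainComplex C ℤ) (d : ℤ)
    (hE : ∀ i < d, IsZero (E.X i))
    (hs : ∀ i, d ≤ i → ∀ f : T ⟶ (singleFunctor C i).obj (E.X i), f = 0) (f : T ⟶ Q.obj E) :
    f = 0 := by
  have key : ∀ g : T ⟶ Q.obj (PerfB.StupidK.quo E (N + 1)), g = 0 := by
    refine PerfA.Devissage.devissage (fun M => ∀ g : T ⟶ M, g = 0) ?_ ?_ ?_ _ d N ?_ ?_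
    · intro X Y e hX g
      rw [← cancel_mono e.inv, zero_comp]
      exact hX _
    · intro T' hT' h₁ h₃ g
      obtain ⟨g', rfl⟩ := Triangle.coyoneda_exact₂ _ hT' g (h₃ _)
      rw [h₁ g']
      exact zero_comp
    · intro X hX g
      exact hX.eq_of_tgt _ _
    · intro i hi
      by_cases h : N + 1 ≤ i
      · exact PerfB.StupidK.isZero_quo_X E h
      · exact (hE i (by lia)).of_iso (PerfB.StupidK.quoXIso E (by lia))
    · intro i hi hi' g
      have e : (PerfB.StupidK.quo E (N + 1)).X i ≅ E.X i := PerfB.StupidK.quoXIso E (by lia)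
      rw [← cancel_mono ((singleFunctor C i).map e.hom), zero_comp]
      exact hs i hi _
  have hT' := DerivedCategory.triangleOfSES_distinguished (PerfB.StupidK.shortExact_S E (N + 1))
  obtain ⟨g, hg⟩ := Triangle.coyoneda_exact₂ _ hT' f (key _)
  have hGE : (Q.obj (PerfB.StupidK.S E (N + 1)).X₁).IsGE (N + 1) :=
    inferInstanceAs ((Q.obj (Dcoh.Sigma.sig E (N + 1))).IsGE (N + 1))
  have hg0 : g = 0 := hom_eq_zero_of_isLE_isGE N (N + 1) (by lia) hT hGE g
  rw [hg, hg0]
  exact zero_comp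

end K822.HomDev
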