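import Groth.Agent.CxOX.K822.Core
import Groth.Agent.CxOX.K822.HomDev
import Groth.Agent.Etdl.H431.LER
import Groth.Agent.PerfC.RpushTrunc
import Groth.Prelude.Def_LocCohZ

/-!
# Vanishing of `RΓ_Z` in low degrees

* `isGE_RgammaZ_of_hom`: `RΓ_Z K ∈ D^{> N}` if there are no nonzero maps to `K` from `T ∈ D^{≤ N}` vanishing on `U`;
* `isGE_RgammaZ_complex`: for a complex `K` with `K^i = 0` for `i < d` and `ℋ^q_Z(K^i) = 0` for `q < d`,
  `RΓ_Z K ∈ D^{≥ 2d}`.
-/

set_option autoImplicit false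

universe u

open CategoryTheory CategoryTheory.Limits AlgebraicGeometry Pretriangulated DerivedCategory

attribute [local instance] HasDerivedCategory.standard

namespace K822.GammaVan

open Groth.Agent Groth.Agent.Etrest.RDer3 Groth.Agent.Sga4h.WayOut

variable {U X : Scheme.{u}} (j : U ⟶ X) [IsOpenImmersion j]

section

variable [CxOX.HasRgammaZ j]

/-- `RΓ_Z` as one of the functors `TR`. -/
noncomputable def rgammaZIso [HasKInj X.Modules] : CxOX.RgammaZ j ≅ TR (DCoh.gammaZ j) :=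
  TRIso (DCoh.gammaZ j)

theorem isGE_RgammaZ_of_hom (K : DCoh.D X) (N : ℤ)
    (h : ∀ T : DCoh.D X, T.IsLE N → IsZero ((DCoh.restrictD j).obj T) → ∀ f : T ⟶ K, f = 0) :
    ((CxOX.RgammaZ j).obj K).IsGE (N + 1) := by
  obtain ⟨T, Y, hT, hY, f, g, δ, hTr⟩ := Cohder.KZDevissage.exists_trunc ((CxOX.RgammaZ j).obj K) N
  have hiso : ∀ i ≤ N, IsIso ((homologyFunctor X.Modules i).map f) := fun i hi =>
    Cohder.KZDevissage.isIso_trunc₁ hTr N i hi
  have hM : IsZero ((DCoh.restrictD j).obj ((CxOX.RgammaZ j).obj K)) :=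
    K478.GammaZ.isZero_restrictD_RgammaZ j K
  -- `T` vanishes on `U`
  have hTU : IsZero ((DCoh.restrictD j).obj T) := by
    rw [LoccohB.VanOn.isZero_restrictD_iff] at hM ⊢
    intro x i
    by_cases hi : i ≤ N
    · have := hiso i hi
      exact (hM x i).of_iso ((PerfA.Restrict.stalkAb _).mapIso
        (asIso ((homologyFunctor X.Modules i).map f)))
    · exact (PerfA.Restrict.stalkAb _).map_isZero (isZero_of_isLE T N i (by lia))
  -- the map `T ⟶ RΓ_Z K` vanishes
  have hf : f = 0 := by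
    apply (K478.GammaZ.bijective_comp_RgammaZToId j hTU K).1
    exact (h T hT hTU _).trans (h T hT hTU _).symm
  rw [DerivedCategory.isGE_iff]
  intro i hi
  have h1 := hiso i (by lia)
  rw [hf, Functor.map_zero] at h1
  exact (IsZero.iff_id_eq_zero _).2 (by
    rw [← cancel_epi (0 : (homologyFunctor X.Modules i).obj T ⟶ _)]
    simp)

theorem hom_eq_zero_of_isGE {T K : DCoh.D X} (N : ℤ) (hT : T.IsLE N)
    (hTU : IsZero ((DCoh.restrictD j).obj T)) (hK : ((CxOX.RgammaZ j).obj K).IsGE (N + 1))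
    (f : T ⟶ K) : f = 0 := by
  obtain ⟨g, rfl⟩ := (K478.GammaZ.bijective_comp_RgammaZToId j hTU K).2 f
  have hg : g = 0 := HomDev.hom_eq_zero_of_isLE_isGE N (N + 1) (by lia) hT hK g
  change g ≫ _ = 0
  rw [hg]
  exact zero_comp

theorem isGE_RgammaZ_single [HasInjectiveResolutions X.Modules] (E : X.Modules) (d : ℕ)
    (hE : ∀ q < d, IsZero ((LocCohZ.HZshM j q).obj E)) (i : ℤ) :
    ((CxOX.RgammaZ j).obj ((singleFunctor X.Modules i).obj E)).IsGE (i + d) := by
  have := PerfC.RpushTrunc.hasKInj X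
  have := PerfC.RpushTrunc.enoughInjectives X
  rw [DerivedCategory.isGE_iff]
  intro q hq
  obtain ⟨e⟩ := nonempty_iso_homology_single (TR (DCoh.gammaZ j)) E i q (q - i) (by lia)
  refine IsZero.of_iso ?_ ((homologyFunctor X.Modules q).mapIso ((rgammaZIso j).app _) ≪≫ e)
  by_cases h : q - i < 0
  · exact isZero_HTRsingle (DCoh.gammaZ j) E (q - i) h
  · obtain ⟨n, hn⟩ := Int.eq_ofNat_of_zero_le (a := q - i) (by lia)
    rw [hn]
    exact (hE n (by lia)).of_iso ((HTRsingle (DCoh.gammaZ j) n).app E)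

theorem isGE_RgammaZ_complex [HasInjectiveResolutions X.Modules] (K : CochainComplex X.Modules ℤ)
    (d : ℕ) (hK : ∀ i : ℤ, i < (d : ℤ) → IsZero (K.X i))
    (hE : ∀ (i : ℤ) (q : ℕ), q < d → IsZero ((LocCohZ.HZshM j q).obj (K.X i))) :
    ((CxOX.RgammaZ j).obj (DCoh.toD X K)).IsGE (2 * d) := by
  have h := isGE_RgammaZ_of_hom j (DCoh.toD X K) (2 * d - 1) (fun T hT hTU f => by
    refine HomDev.hom_eq_zero T (2 * d - 1) hT K d hK (fun i hi g => ?_) f
    have h1 := isGE_RgammaZ_single j (K.X i) d (fun q hq => hE i q hq) i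
    have h2 : ((CxOX.RgammaZ j).obj ((singleFunctor X.Modules i).obj (K.X i))).IsGE
        (2 * d - 1 + 1) :=
      TStructure.t.isGE_of_ge _ _ (i + d) (by lia)
    exact hom_eq_zero_of_isGE j (2 * d - 1) hT hTU h2 g)
  rwa [show (2 * (d : ℤ) - 1 + 1) = 2 * d by ring] at h

end

end K822.GammaVan
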