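import Groth.Agent.LocCohZ.K287.LocVan
import Groth.Agent.LocCohZ.K287.PushSeq
import Groth.Prelude.Def_CxOX
import Groth.Agent.Ega4B.RpushCompare
import Groth.Agent.Sga4h.LocCohLES

/-!
# `ℋ^q_Z` of `O_X`-modules and of the underlying abelian sheaves
-/

set_option autoImplicit false

universe u

open CategoryTheory CategoryTheory.Limits AlgebraicGeometry Opposite TopologicalSpace
open Groth.Agent.CohtopA.Sec Groth.Agent.CohtopB.TopPull

namespace K822.HZCmp

open Groth.Agent Groth.Agent.Ega4B.RpushCompare Groth.Agent.LocCohZ.K287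

variable {U X : Scheme.{u}} (j : U ⟶ X) [IsOpenImmersion j]

/-- Morphisms of sheaves are determined by sections. -/
theorem hom_ext {Y : TopCat.{u}} {F G : CohTop.Ab Y} (φ ψ : F ⟶ G) (h : ∀ V s, m φ V s = m ψ V s) :
    φ = ψ := by
  apply Sheaf.hom_ext
  ext V s
  exact h V.unop s

theorem r_eq_zero_iff (M : X.Modules) (V : X.Opens) (s : Γ(M, V)) :
    r (X := X.carrier) (Coh.toAb M) (inf_le_left : V ⊓ j.opensRange ≤ V) s = 0 ↔
      M.presheaf.map (homOfLE (j.image_preimage_le V)).op s = 0 := by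
  have h : j ''ᵁ (j ⁻¹ᵁ V) = V ⊓ j.opensRange := by
    rw [Scheme.Hom.image_preimage_eq_opensRange_inf, inf_comm]
  constructor
  · intro hs
    have h1 := congrArg (r (X := X.carrier) (Coh.toAb M) h.le) hs
    rw [map_zero, r_r] at h1
    exact h1
  · intro hs
    have h1 := congrArg (r (X := X.carrier) (Coh.toAb M) h.ge)
      (show r (X := X.carrier) (Coh.toAb M) (j.image_preimage_le V) s = 0 from hs)
    rw [map_zero, r_r] at h1
    exact h1

/-- Sections of `Γ_Z M` vanish on `V ⊓ U`. -/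
theorem ι_unit (M : X.Modules) :
    (toAbF X).map (kernel.ι ((Scheme.Modules.restrictAdjunction j).unit.app M)) ≫
      (adj (CohCx.incl (X := X.carrier) j.opensRange)).unit.app (Coh.toAb M) = 0 := by
  refine hom_ext _ _ fun V s => ?_
  have h1 : (kernel.ι ((Scheme.Modules.restrictAdjunction j).unit.app M) ≫
    (Scheme.Modules.restrictAdjunction j).unit.app M).app V s = 0 := by
    rw [kernel.condition]
    rfl
  refine (Sect.m_unit_eq_zero_iff j.opensRange (Coh.toAb M) V _).2 ?_
  rw [r_eq_zero_iff]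
  exact h1

theorem κ_unit (M : X.Modules) :
    kernel.ι ((adj (CohCx.incl (X := X.carrier) j.opensRange)).unit.app (Coh.toAb M)) ≫
      (toAbF X).map ((Scheme.Modules.restrictAdjunction j).unit.app M) = 0 := by
  refine hom_ext _ _ fun V t => ?_
  exact (r_eq_zero_iff j M V _).1 ((Sect.mem_range_κ_iff j.opensRange (Coh.toAb M) V _).1 ⟨t, rfl⟩)

section Ker

universe v' u'

variable {C : Type u'} [Category.{v'} C] [HasZeroMorphisms C] {A B₁ B₂ K₁ K₂ : C} {f₁ : A ⟶ B₁}
  {f₂ : A ⟶ B₂} {i₁ : K₁ ⟶ A} {i₂ : K₂ ⟶ A} (w₁ : i₁ ≫ f₁ = 0) (w₂ : i₂ ≫ f₂ = 0)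
  (h₁ : IsLimit (KernelFork.ofι i₁ w₁)) (h₂ : IsLimit (KernelFork.ofι i₂ w₂)) (c₁ : i₁ ≫ f₂ = 0)
  (c₂ : i₂ ≫ f₁ = 0)

/-- Two kernels which kill each other's maps agree. -/
noncomputable def kerIso : K₁ ≅ K₂ where
  hom := (KernelFork.IsLimit.lift' h₂ i₁ c₁).1
  inv := (KernelFork.IsLimit.lift' h₁ i₂ c₂).1
  hom_inv_id := by
    have := mono_of_isLimit_fork h₁
    have h3 : (KernelFork.IsLimit.lift' h₂ i₁ c₁).1 ≫ i₂ = i₁ := (KernelFork.IsLimit.lift' h₂ i₁ c₁).2
    have h4 : (KernelFork.IsLimit.lift' h₁ i₂ c₂).1 ≫ i₁ = i₂ := (KernelFork.IsLimit.lift' h₁ i₂ c₂).2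
    have : Mono i₁ := this
    rw [← cancel_mono i₁, Category.assoc, h4, h3, Category.id_comp]
  inv_hom_id := by
    have := mono_of_isLimit_fork h₂
    have h3 : (KernelFork.IsLimit.lift' h₂ i₁ c₁).1 ≫ i₂ = i₁ := (KernelFork.IsLimit.lift' h₂ i₁ c₁).2
    have h4 : (KernelFork.IsLimit.lift' h₁ i₂ c₂).1 ≫ i₁ = i₂ := (KernelFork.IsLimit.lift' h₁ i₂ c₂).2
    have : Mono i₂ := this
    rw [← cancel_mono i₂, Category.assoc, h3, h4, Category.id_comp]

theorem kerIso_hom : (kerIso w₁ w₂ h₁ h₂ c₁ c₂).hom ≫ i₂ = i₁ :=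
  (KernelFork.IsLimit.lift' h₂ i₁ c₁).2

end Ker

theorem w₁ (M : X.Modules) :
    (toAbF X).map (kernel.ι ((Scheme.Modules.restrictAdjunction j).unit.app M)) ≫
      (toAbF X).map ((Scheme.Modules.restrictAdjunction j).unit.app M) = 0 := by
  rw [← Functor.map_comp, kernel.condition, Functor.map_zero]

/-- The comparison of `Γ_Z` for `O_X`-modules and abelian sheaves. -/
noncomputable def cmpApp (M : X.Modules) :
    (toAbF X).obj ((DCoh.gammaZ j).obj M) ≅
      (LocCohZ.sectSuppF (X := X.carrier) j.opensRange).obj (Coh.toAb M) :=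
  kerIso (w₁ j M) (kernel.condition _) (KernelFork.mapIsLimit (KernelFork.ofι _ (kernel.condition
      ((Scheme.Modules.restrictAdjunction j).unit.app M))) (kernelIsKernel _) (toAbF X))
    (kernelIsKernel ((adj (CohCx.incl (X := X.carrier) j.opensRange)).unit.app (Coh.toAb M)))
    (ι_unit j M) (κ_unit j M)

theorem cmpApp_hom (M : X.Modules) : (cmpApp j M).hom ≫ (Sect.κ (X := X.carrier) j.opensRange).app (Coh.toAb M) =
    (toAbF X).map (kernel.ι ((Scheme.Modules.restrictAdjunction j).unit.app M)) :=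
  kerIso_hom (w₁ j M) (kernel.condition _) (KernelFork.mapIsLimit (KernelFork.ofι _ (kernel.condition
      ((Scheme.Modules.restrictAdjunction j).unit.app M))) (kernelIsKernel _) (toAbF X))
    (kernelIsKernel ((adj (CohCx.incl (X := X.carrier) j.opensRange)).unit.app (Coh.toAb M)))
    (ι_unit j M) (κ_unit j M)

/-- The comparison of `Γ_Z` for `O_X`-modules and abelian sheaves. -/
noncomputable def cmp : DCoh.gammaZ j ⋙ toAbF X ≅
    toAbF X ⋙ LocCohZ.sectSuppF (X := X.carrier) j.opensRange :=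
  NatIso.ofComponents (cmpApp j) (by
    intro M N φ
    have : Mono ((Sect.κ (X := X.carrier) j.opensRange).app (Coh.toAb N)) :=
      inferInstanceAs (Mono (kernel.ι ((adj (CohCx.incl (X := X.carrier) j.opensRange)).unit.app
        (Coh.toAb N))))
    rw [← cancel_mono ((Sect.κ (X := X.carrier) j.opensRange).app (Coh.toAb N))]
    have h1 := (Sect.κ (X := X.carrier) j.opensRange).naturality ((toAbF X).map φ)
    have h2 : (DCoh.gammaZ j).map φ ≫ kernel.ι ((Scheme.Modules.restrictAdjunction j).unit.app N) =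
      kernel.ι ((Scheme.Modules.restrictAdjunction j).unit.app M) ≫ φ := kernel.lift_ι _ _ _
    have h3 : (toAbF X).map ((DCoh.gammaZ j).map φ) ≫
        (toAbF X).map (kernel.ι ((Scheme.Modules.restrictAdjunction j).unit.app N)) =
        (toAbF X).map (kernel.ι ((Scheme.Modules.restrictAdjunction j).unit.app M)) ≫
          (toAbF X).map φ :=
      ((toAbF X).map_comp _ _).symm.trans
        ((congrArg (fun t => (toAbF X).map t) h2).trans ((toAbF X).map_comp _ _))
    refine (Category.assoc _ _ _).trans ((congrArg (fun t => _ ≫ t) (cmpApp_hom j N)).trans ?_)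
    refine h3.trans ?_
    refine Eq.trans ?_ (Category.assoc _ _ _).symm
    refine Eq.trans ?_ (congrArg (fun t => _ ≫ t) h1.symm)
    refine Eq.trans ?_ (Category.assoc _ _ _)
    exact congrArg (fun t => t ≫ _) (cmpApp_hom j M).symm)

theorem preservesFiniteLimits_gammaZ : PreservesFiniteLimits (DCoh.gammaZ j) := by
  have : PreservesFiniteLimits (Scheme.Modules.pushforward j) := by
    have := (Scheme.Modules.pullbackPushforwardAdjunction j).isRightAdjoint
    infer_instance
  have : PreservesFiniteLimits (Scheme.Modules.restrictFunctor j) := by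
    infer_instance
  have : PreservesFiniteLimits (Scheme.Modules.restrictFunctor j ⋙ Scheme.Modules.pushforward j) :=
    comp_preservesFiniteLimits _ _
  exact Sga4h.LocCohLES.leftExact_of_kernel
    (Scheme.Modules.restrictFunctor j ⋙ Scheme.Modules.pushforward j) (DCoh.gammaZ j)
    { app := fun M => kernel.ι ((Scheme.Modules.restrictAdjunction j).unit.app M)
      naturality := fun _ _ _ => kernel.lift_ι _ _ _ }
    (Scheme.Modules.restrictAdjunction j).unit (fun _ => kernel.condition _)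
    (fun M => kernelIsKernel ((Scheme.Modules.restrictAdjunction j).unit.app M))

theorem preservesFiniteLimits_sectSuppF {Y : TopCat.{u}} (V : Opens Y) :
    PreservesFiniteLimits (LocCohZ.sectSuppF V) := by
  exact Sga4h.LocCohLES.leftExact_of_kernel (PushSeq.pp V) (LocCohZ.sectSuppF V) (Sect.κ V)
    (PushSeq.un V) (PushSeq.κ_un V)
    (fun M => kernelIsKernel ((adj (CohCx.incl V)).unit.app M))

theorem acyclic_toAb (V : X.Opens) (I : X.Modules) (hI : Injective I) :
    EtpbcB.Acyc.Acyclic (LocCohZ.sectSuppF (X := X.carrier) V) ((toAbF X).obj I) := by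
  intro q hq
  obtain ⟨q, rfl⟩ : ∃ r, q = r + 1 := ⟨q - 1, by omega⟩
  have := Groth.Agent.Ega3B.InjMod.isFlasque_of_injective I
  exact LocVan.isZero_HZsh_of_isFlasque (X := X.carrier) V (Coh.toAb I) q

/-- The abelian sheaf underlying `ℋ^q_Z(M)`. -/
theorem nonempty_iso [HasInjectiveResolutions X.Modules] (M : X.Modules) (q : ℕ) :
    Nonempty (Coh.toAb ((LocCohZ.HZshM j q).obj M) ≅
      (LocCohZ.HZsh (X := X.carrier) j.opensRange q).obj (Coh.toAb M)) := by
  have := enoughInjectives_of_hasInjectiveResolutions (C := X.Modules)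
  have := preservesFiniteLimits_gammaZ j
  have := preservesFiniteLimits_sectSuppF (Y := X.carrier) j.opensRange
  obtain ⟨e₁⟩ := rightDerived_comp_exact (DCoh.gammaZ j) (toAbF X) M q
  obtain ⟨e₂⟩ := EtpbcB.Acyc.comp_acyclic (toAbF X) (LocCohZ.sectSuppF (X := X.carrier) j.opensRange)
    (fun I hI => acyclic_toAb j.opensRange I hI) M (acyclic_of_exact _ _) q
  exact ⟨e₁ ≪≫ (CohtopA.RDComp.rightDerivedCongr (cmp j) q).app M ≪≫ e₂.symm⟩

theorem isZero_HZshM [HasInjectiveResolutions X.Modules] (M : X.Modules) (q : ℕ)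
    (h : IsZero ((LocCohZ.HZsh (X := X.carrier) j.opensRange q).obj (Coh.toAb M))) :
    IsZero ((LocCohZ.HZshM j q).obj M) := by
  obtain ⟨e⟩ := nonempty_iso j M q
  exact isZero_of_isZero_toAb (h.of_iso e)

end K822.HZCmp
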