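import Groth.Agent.CxOX.K822.GammaVan
import Groth.Agent.CxOX.K822.Acyc

/-!
# `RΓ_Z(X, K) ≅ RΓ(X, RΓ_Z K)` for `K` bounded below
-/

set_option autoImplicit false

universe u

open CategoryTheory CategoryTheory.Limits AlgebraicGeometry Pretriangulated DerivedCategory

attribute [local instance] HasDerivedCategory.standard

namespace K822.SectCmp

open Groth.Agent Groth.Agent.Etrest.RDer3 Groth.Agent.Etrest.RDer2

instance preservesFiniteLimits_gammaAb (X : Scheme.{u}) : PreservesFiniteLimits (DCoh.gammaAb X) := by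
  unfold DCoh.gammaAb
  infer_instance

variable {U X : Scheme.{u}} (j : U ⟶ X) [IsOpenImmersion j]

/-- `RΓ_Z(X, K) ≅ RΓ(X, RΓ_Z K)` for `K` bounded below. -/
theorem nonempty_iso [CxOX.HasRgammaZ j] [CxOX.HasRsectZ j] [HasKInj X.Modules]
    [EnoughInjectives X.Modules] (K : CochainComplex X.Modules ℤ) (a : ℤ)
    (hK : ∀ i : ℤ, i < a → IsZero (K.X i)) :
    Nonempty ((CxOX.RsectZ j).obj (DCoh.toD X K) ≅
      (TR (DCoh.gammaAb X)).obj ((CxOX.RgammaZ j).obj (DCoh.toD X K))) := by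
  have hKs : K.IsStrictlyGE a := (CochainComplex.isStrictlyGE_iff K a).2 hK
  obtain ⟨I, s, hs, hI, hIa, hIK⟩ := exists_injRes K a
  have : IsIso (Q.map s) := (isIso_Q_map_iff_quasiIso _ _).2 hs
  let e : DCoh.toD X K ≅ Q.obj I := asIso (Q.map s)
  let G : CochainComplex X.Modules ℤ := ((DCoh.gammaZ j).mapHomologicalComplex (ComplexShape.up ℤ)).obj I
  have hGa : G.IsStrictlyGE a := inferInstance
  have h1 : IsIso ((unitQ (DCoh.gammaAb X)).app G) :=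
    isIso_unitQ_of_isAcyc (DCoh.gammaAb X) G a fun i => by
      have := hI i
      exact Acyc.isAcyc_gammaZ j (I.X i)
  have h2 : IsIso ((unitQ (CxOX.sectZAb j)).app I) := isIso_unitQ_of_isKInjective _ I hIK
  have h3 : IsIso ((unitQ (DCoh.gammaZ j)).app I) := isIso_unitQ_of_isKInjective _ I hIK
  let i₁ : (CxOX.RsectZ j).obj (DCoh.toD X K) ≅ (TR (CxOX.sectZAb j)).obj (DCoh.toD X K) :=
    (TRIso (CxOX.sectZAb j)).app _
  let i₂ : (TR (CxOX.sectZAb j)).obj (DCoh.toD X K) ≅ (TR (CxOX.sectZAb j)).obj (Q.obj I) :=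
    (TR (CxOX.sectZAb j)).mapIso e
  let i₃ := asIso ((unitQ (CxOX.sectZAb j)).app I)
  let i₄ := asIso ((unitQ (DCoh.gammaAb X)).app G)
  let i₅ : (TR (DCoh.gammaAb X)).obj (Q.obj G) ≅
      (TR (DCoh.gammaAb X)).obj ((TR (DCoh.gammaZ j)).obj (Q.obj I)) :=
    (TR (DCoh.gammaAb X)).mapIso (asIso ((unitQ (DCoh.gammaZ j)).app I))
  let i₆ : (CxOX.RgammaZ j).obj (DCoh.toD X K) ≅ (TR (DCoh.gammaZ j)).obj (Q.obj I) :=
    (GammaVan.rgammaZIso j).app _ ≪≫ (TR (DCoh.gammaZ j)).mapIso e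
  exact ⟨i₁ ≪≫ i₂ ≪≫ i₃.symm ≪≫ i₄ ≪≫ i₅ ≪≫ (TR (DCoh.gammaAb X)).mapIso i₆.symm⟩

/-- If `RΓ_Z K ∈ D^{≥ m}` then `H^n_Z(X, K) = 0` for `n < m`. -/
theorem isZero_homology_RsectZ [CxOX.HasRsectZ j] (K : CochainComplex X.Modules ℤ) (a m : ℤ)
    (hK : ∀ i : ℤ, i < a → IsZero (K.X i))
    (hm : ∀ _ : CxOX.HasRgammaZ j, ((CxOX.RgammaZ j).obj (DCoh.toD X K)).IsGE m) (n : ℤ) (hn : n < m) :
    IsZero ((homologyFunctor AddCommGrpCat.{u} n).obj ((CxOX.RsectZ j).obj (DCoh.toD X K))) := by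
  have := PerfC.RpushTrunc.hasKInj X
  have := PerfC.RpushTrunc.enoughInjectives X
  have hR := K478.GammaZ.hasRgammaZ j
  have h1 := hm hR
  obtain ⟨e⟩ := nonempty_iso j K a hK
  have h2 : ((TR (DCoh.gammaAb X)).obj ((CxOX.RgammaZ j).obj (DCoh.toD X K))).IsGE m :=
    TR_isGE _ _ m
  exact (isZero_of_isGE _ m n hn).of_iso ((homologyFunctor _ n).mapIso e)

/-- If `RΓ_Z K ∈ D^{≥ m}` then `H^m_Z(X, K) = Γ(X, ℋ^m_Z(K))`. -/
theorem nonempty_homology_RsectZ [CxOX.HasRgammaZ j] [CxOX.HasRsectZ j]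
    (K : CochainComplex X.Modules ℤ) (a m : ℤ) (hK : ∀ i : ℤ, i < a → IsZero (K.X i))
    (hm : ((CxOX.RgammaZ j).obj (DCoh.toD X K)).IsGE m) :
    Nonempty ((homologyFunctor AddCommGrpCat.{u} m).obj ((CxOX.RsectZ j).obj (DCoh.toD X K)) ≅
      (DCoh.gammaAb X).obj (DCoh.HD ((CxOX.RgammaZ j).obj (DCoh.toD X K)) m)) := by
  have := PerfC.RpushTrunc.hasKInj X
  have := PerfC.RpushTrunc.enoughInjectives X
  obtain ⟨e⟩ := nonempty_iso j K a hK
  obtain ⟨e'⟩ := Etdl.H431.LER.nonempty_homology_TR_edge (DCoh.gammaAb X)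
    ((CxOX.RgammaZ j).obj (DCoh.toD X K)) m
  exact ⟨(homologyFunctor _ m).mapIso e ≪≫ e'⟩

end K822.SectCmp
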