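import Groth.Agent.CxOX.K822.Core

/-!
# When is `K ⟶ Rj_* j^* K` an isomorphism?
-/

set_option autoImplicit false

universe u

open CategoryTheory CategoryTheory.Limits AlgebraicGeometry Pretriangulated

attribute [local instance] HasDerivedCategory.standard

namespace K822.UnitIso

open Groth.Agent Groth.Agent.LoccohB.VanOn

variable {X Y : Scheme.{u}} (j : X ⟶ Y) [IsOpenImmersion j] [DCoh.HasRpush j]
  (adj : DCoh.restrictD j ⊣ DCoh.Rpush j)

/-- The counit is an isomorphism. -/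
theorem isIso_counit : IsIso adj.counit := inferInstance

/-- The cone of the unit. -/
theorem exists_cone (K : DCoh.D Y) : ∃ (C : DCoh.D Y)
    (v : (DCoh.Rpush j).obj ((DCoh.restrictD j).obj K) ⟶ C) (w : C ⟶ K⟦(1 : ℤ)⟧),
    Triangle.mk (adj.unit.app K) v w ∈ distTriang (DCoh.D Y) ∧
    IsZero ((DCoh.restrictD j).obj C) := by
  obtain ⟨C, v, w, hT⟩ := distinguished_cocone_triangle (adj.unit.app K)
  refine ⟨C, v, w, hT, ?_⟩
  have := isIso_counit j adj
  have h1 : IsIso ((DCoh.restrictD j).map (adj.unit.app K)) :=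
    PerfB.OpenAdj.isIso_map_unit_of_isIso_counit adj K
  exact (Triangle.isZero₃_iff_isIso₁ _ ((DCoh.restrictD j).map_distinguished _ hT)).2 h1

/-- If `K` vanishes on `W` and `W`, `j(X)` cover `Y` then the unit is an isomorphism. -/
theorem isIso_unit_of_vanOn (W : Y.Opens) (hW : ∀ y : Y, y ∈ W ∨ y ∈ Set.range j) (K : DCoh.D Y)
    (hK : vanOn W K) : IsIso (adj.unit.app K) := by
  obtain ⟨C, v, w, hT, hC⟩ := exists_cone j adj K
  refine (Triangle.isZero₃_iff_isIso₁ _ hT).1 ?_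
  change IsZero C
  rw [isZero_iff_vanAt]
  intro y
  rcases hW y with hy | ⟨x, rfl⟩
  · have h1 : vanOn W ((DCoh.Rpush j).obj ((DCoh.restrictD j).obj K)) :=
      vanOn_Rpush j W _ (vanOn_restrictD j W K hK)
    exact (vanOn_iff_vanAt W C).1 (vanOn_ext₃ _ hT hK h1) y hy
  · exact (isZero_restrictD_iff j C).1 hC x

/-- If `K` vanishes on `V` and receives no nonzero maps from objects vanishing on `V` and `j(X)` then the unit
is an isomorphism. -/
theorem isIso_unit_of_hom (V : Y.Opens) (K : DCoh.D Y) (hK : vanOn V K)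
    (hom : ∀ T : DCoh.D Y, vanOn V T → IsZero ((DCoh.restrictD j).obj T) → ∀ ψ : T ⟶ K, ψ = 0) :
    IsIso (adj.unit.app K) := by
  obtain ⟨C, v, w, hT, hC⟩ := exists_cone j adj K
  refine (Triangle.isZero₃_iff_isIso₁ _ hT).1 ?_
  change IsZero C
  have h1 : vanOn V ((DCoh.Rpush j).obj ((DCoh.restrictD j).obj K)) :=
    vanOn_Rpush j V _ (vanOn_restrictD j V K hK)
  have h2 : vanOn V C := vanOn_ext₃ _ hT hK h1
  have h3 : w = 0 := by
    have h4 := hom (C⟦(-1 : ℤ)⟧) (vanOn_shift h2 _) (K478.GammaZ.isZero_restrictD_shift j hC _)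
      (w⟦(-1 : ℤ)⟧' ≫ (shiftFunctorCompIsoId (DCoh.D Y) (1 : ℤ) (-1) (by omega)).hom.app K)
    have h5 : w⟦(-1 : ℤ)⟧' = 0 := by
      rw [← cancel_mono ((shiftFunctorCompIsoId (DCoh.D Y) (1 : ℤ) (-1) (by omega)).hom.app K), h4]
      exact zero_comp.symm
    exact (shiftFunctor _ (-1 : ℤ)).map_injective (h5.trans (Functor.map_zero _ _ _).symm)
  obtain ⟨ψ, hψ⟩ := Triangle.coyoneda_exact₃ _ hT (𝟙 C) ((Category.id_comp w).trans h3)
  rw [IsZero.iff_id_eq_zero]
  refine hψ.trans ?_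
  have h6 : ψ = 0 := by
    apply (adj.homEquiv _ _).symm.injective
    exact hC.eq_of_src _ _
  rw [h6]
  exact zero_comp

end K822.UnitIso
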